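import Cfsg.Agent.Lib.Fi22Deg78.Data
import Cfsg.Agent.Lib.Fi22Deg78.PackMat
import Cfsg.Agent.Lib.CosetEnum.Net

/-!
The nine matrices satisfy the relations of the presented Fi22 (helper41).

* `mat`, `pw`, `pw_spec`: matrices and checked powers of words
* `rel_pairs`, `rel_extra`, `mat_ne_one`
-/

set_option autoImplicit false
set_option maxRecDepth 100000

namespace Cfsg.Agent.Fi22Deg78

open Cfsg.Agent.CosetEnum

/-- entry of a matrix -/
noncomputable def entry (a i k : ℕ) : ℕ := lane 4 ((gens.getD a []).getD i 0) k

/-- a matrix -/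
noncomputable def mat (a : ℕ) : Matrix (Fin 78) (Fin 78) (ZMod 13) := Matrix.of fun i k => (entry a i k : ZMod 13)

/-- the packed identity -/
def pone : ℕ := mkPack 78 fun i k => bif Nat.beq i k then 1 else 0

/-- the packed word -/
noncomputable def pword (w : List ℕ) : ℕ :=
  List.rec (motive := fun _ => ℕ) pone
    (fun a _ ih => force ih fun r => force (mkPack 78 (entry a)) fun m => mmul 78 m r) w

/-- the packed power -/
noncomputable def ppow (P : ℕ) : ℕ → ℕ := fun m =>
  Nat.rec (motive := fun _ => ℕ) pone (fun _ ih => force ih fun r => mmul 78 r P) m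

/-- check that the power of the word is one -/
noncomputable def relB (w : List ℕ) (m : ℕ) : Bool := force (pword w) fun P => Nat.beq (ppow P m) pone

theorem pone_rep : IsRep 78 pone (1 : Matrix (Fin 78) (Fin 78) (ZMod 13)) := by
  have h := IsRep.mk 78 fun i k => bif Nat.beq i k then 1 else 0
  refine (?_ : (Matrix.of fun i k : Fin 78 => (((bif Nat.beq i k then 1 else 0 : ℕ)) : ZMod 13)) = 1) ▸ h
  ext i k
  rw [Matrix.of_apply, Matrix.one_apply]
  by_cases hik : i = k
  · subst hik; simp
  · have : Nat.beq (i : ℕ) k = false := by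
      rw [Bool.eq_false_iff, Ne, CosetEnum.beq_iff]
      exact fun hc => hik (Fin.ext hc)
    simp [this, hik]

theorem pword_rep : ∀ w : List ℕ, IsRep 78 (pword w) (w.map mat).prod
  | [] => by rw [List.map_nil, List.prod_nil]; exact pone_rep
  | a :: v => by
    show IsRep 78 (force (pword v) fun r => force (mkPack 78 (entry a)) fun m => mmul 78 m r) _
    rw [force_eq, force_eq, List.map_cons, List.prod_cons]
    exact (IsRep.mk 78 (entry a)).mul (by norm_num) (pword_rep v)

theorem ppow_rep {P : ℕ} {A : Matrix (Fin 78) (Fin 78) (ZMod 13)} (h : IsRep 78 P A) :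
    ∀ m, IsRep 78 (ppow P m) (A ^ m)
  | 0 => by rw [pow_zero]; exact pone_rep
  | m + 1 => by
    show IsRep 78 (force (ppow P m) fun r => mmul 78 r P) _
    rw [force_eq, pow_succ]
    exact (ppow_rep h m).mul (by norm_num) h

theorem relB_spec {w : List ℕ} {m : ℕ} (h : relB w m = true) : (w.map mat).prod ^ m = 1 := by
  rw [relB, force_eq, CosetEnum.beq_iff] at h
  exact (ppow_rep (pword_rep w) m).unique (h ▸ pone_rep)

/-- linked generators -/
def linked : List (ℕ × ℕ) := [(0, 1), (1, 2), (2, 3), (3, 4), (3, 7), (4, 5), (5, 6), (7, 8)]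

/-- the label of two generators -/
def lab (a b : ℕ) : ℕ :=
  bif Nat.beq a b then 1 else bif linked.any (fun p => (Nat.beq p.1 a && Nat.beq p.2 b) || (Nat.beq p.1 b && Nat.beq p.2 a))
    then 3 else 2

theorem pair_check0 : ((List.range 5).all fun a => (List.range (a + 1)).all fun b => relB [a, b] (lab a b)) = true := by
  decide +kernel

theorem pair_check1 : ((List.range 4).all fun a => (List.range (a + 6)).all fun b => relB [a + 5, b] (lab (a + 5) b))
    = true := by decide +kernel

theorem extra1 : relB [3, 2, 1, 3, 4, 5, 3, 7, 8] 10 = true := by decide +kernel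

theorem extra2 : relB [0, 1, 2, 3, 4, 5, 7] 9 = true := by decide +kernel

theorem extra3 : relB [1, 2, 3, 4, 5, 6, 7] 9 = true := by decide +kernel

theorem ne_one_check : Nat.beq (mkPack 78 (entry 0)) pone = false := by decide +kernel

theorem mat_ne_one : mat 0 ≠ 1 := fun h => by
  have h1 : IsRep 78 (mkPack 78 (entry 0)) (1 : Matrix (Fin 78) (Fin 78) (ZMod 13)) := h ▸ IsRep.mk 78 (entry 0)
  obtain ⟨f, hf, hf13, hfA⟩ := h1
  obtain ⟨g, hg, hg13, hgA⟩ := pone_rep
  have : f = f := rfl
  have he : mkPack 78 (entry 0) = pone := by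
    rw [hf, hg]
    refine pack_congr fun t ht => ?_
    have h2 := (hfA ⟨t / 78, by omega⟩ ⟨t % 78, by omega⟩).symm.trans (hgA ⟨t / 78, by omega⟩ ⟨t % 78, by omega⟩)
    simp only [Nat.div_add_mod] at h2
    rwa [ZMod.natCast_eq_natCast_iff', Nat.mod_eq_of_lt (hf13 t ht), Nat.mod_eq_of_lt (hg13 t ht)] at h2
  have := ne_one_check
  rw [he, Nat.beq_refl] at this
  exact Bool.noConfusion this

theorem pair_rel {a b : ℕ} (ha : a < 9) (hb : b < 9) : (mat a * mat b) ^ lab a b = 1 := by
  have key : ∀ x y, y ≤ x → x < 9 → (mat x * mat y) ^ lab x y = 1 := by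
    intro x y hyx hx
    have h : relB [x, y] (lab x y) = true := by
      by_cases h5 : x < 5
      · exact List.all_eq_true.mp (List.all_eq_true.mp pair_check0 x (List.mem_range.mpr h5)) y
          (List.mem_range.mpr (by omega))
      · obtain ⟨c, rfl⟩ : ∃ c, x = c + 5 := ⟨x - 5, by omega⟩
        exact List.all_eq_true.mp (List.all_eq_true.mp pair_check1 c (List.mem_range.mpr (by omega))) y
          (List.mem_range.mpr (by omega))
    simpa using relB_spec h
  rcases le_total b a with h | h
  · exact key a b h ha
  · have hl : lab a b = lab b a := by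
      have : ((List.range 9).all fun x => (List.range 9).all fun y => Nat.beq (lab x y) (lab y x)) = true := by
        decide +kernel
      exact CosetEnum.beq_iff.mp
        (List.all_eq_true.mp (List.all_eq_true.mp this a (List.mem_range.mpr ha)) b (List.mem_range.mpr hb))
    rw [hl]
    have hk := key b a h hb
    have hsq : mat b * mat b = 1 := by
      have := key b b le_rfl hb
      simpa [lab] using this
    have : (mat a * mat b) ^ lab b a = mat b * (mat b * mat a) ^ lab b a * mat b := by
      induction lab b a with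
      | zero => rw [pow_zero, pow_zero, mul_one, hsq]
      | succ n ih =>
        rw [pow_succ, ih, pow_succ]
        simp only [mul_assoc]
    rw [this, hk, mul_one, hsq]

end Cfsg.Agent.Fi22Deg78
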